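import Cfsg.Agent.H7.More
import Cfsg.Agent.H9.NormSys

/-!
# Fusion systems over groups of Heisenberg type
-/

set_option autoImplicit false
set_option linter.unusedSectionVars false

open Equiv
open scoped commutatorElement

namespace Cfsg.FusionSystem

open Cfsg.Fus Cfsg.Agent

variable {Ω : Type*} [Group Ω] {S : Subgroup Ω} {F : FusionSystem S}
  {P Q R : Subgroup Ω} {σ τ : Perm Ω} {p : ℕ}

/-- The elements of `Aut_F(P)` fixing `y` and the coset `x ⟨y⟩`. -/
def cosetStab (F : FusionSystem S) (P : Subgroup Ω) (hP : P ≤ S) {x y : Ω} (hx : x ∈ P)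
    (hy : y ∈ P) : Subgroup (Perm Ω) where
  carrier := {h | F.Iso P P h ∧ h y = y ∧ ∃ n : ℤ, h x = x * y ^ n}
  one_mem' := ⟨F.iso_one hP, rfl, 0, by simp⟩
  mul_mem' := fun {a b} ⟨a1, a2, m, a3⟩ ⟨b1, b2, n, b3⟩ => ⟨b1.trans a1, by simp [a2, b2], m + n, by
    rw [Perm.mul_apply, b3, a1.homOn.map_mul hx (P.zpow_mem hy n), a1.homOn.map_zpow hy, a2, a3,
      zpow_add, mul_assoc]⟩
  inv_mem' := fun {a} ⟨a1, a2, m, a3⟩ => ⟨a1.symm, by rw [Perm.inv_eq_iff_eq, a2], -m, by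
    rw [Perm.inv_eq_iff_eq, a1.homOn.map_mul hx (P.zpow_mem hy _), a1.homOn.map_zpow hy, a2, a3]
    simp⟩

/-- A `p`-element of `Aut_F(P)` that fixes `y` and moves `x` inside `x ⟨y⟩`, for `x`, `y` fixed by
the Sylow subgroup `Aut_S(P)`, fixes `x`. -/
theorem IsFullyAutomized.fix_of_coset [Fact p.Prime] [Finite S] (h : F.IsFullyAutomized p P)
    {x y : Ω} (hx : x ∈ P) (hy : y ∈ P)
    (hx' : x ∈ Subgroup.centralizer ((normalizerIn S P : Subgroup Ω) : Set Ω))
    (hy' : y ∈ Subgroup.centralizer ((normalizerIn S P : Subgroup Ω) : Set Ω))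
    (hσ : H8.QEl F p P σ) (h1 : σ y = y) {n : ℤ} (h2 : σ x = x * y ^ n) : σ x = x := by
  have key : ∀ u ∈ innS S P, ∀ z ∈ P,
      z ∈ Subgroup.centralizer ((normalizerIn S P : Subgroup Ω) : Set Ω) → u z = z := by
    intro u hu z hz hz'
    obtain ⟨g, a, b, c⟩ := mem_innS.1 hu
    rw [c z hz, Subgroup.mem_centralizer_iff.1 hz' g ⟨a, b⟩, mul_inv_cancel_right]
  have hK : F.cosetStab P h.le hx hy ≤ F.stab P := fun _ a => a.1.mem_stab
  have hs := h.sylMod.subgroup (F.finMod_stab h.le) (B' := F.cosetStab P h.le hx hy)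
    (fun u hu => ⟨(FusionSystem.mem_stab h.le).1 (F.innS_le_stab h.le hu), key u hu y hy hy', 0,
      by simp [key u hu x hx hx']⟩) hK
  obtain ⟨-, k, hk⟩ := id hσ
  obtain ⟨χ, ⟨c1, c2, m, c3⟩, c4⟩ := hs.conj (Subgroup.zpowers σ)
    (Subgroup.zpowers_le.2 ⟨hσ.1, h1, n, h2⟩) (isPMod_zpowers hk)
  obtain ⟨u, hu, hu'⟩ := c4 σ (Subgroup.mem_zpowers σ)
  have hu1 := (FusionSystem.mem_stab h.le).1 (F.innS_le_stab h.le hu)
  have := inv_mul_mem_fixP.1 hu' _ (c1.mem hx)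
  rw [Perm.mul_apply, Perm.mul_apply, perm_inv_apply_self, c3,
    hu1.homOn.map_mul hx (P.zpow_mem hy m), hu1.homOn.map_zpow hy, key u hu x hx hx',
    key u hu y hy hy', ← c3] at this
  exact χ.injective this

/-- For `S` of class at most two, `Z(S)` is not invariant under `Aut_F(P)` for `P` essential. -/
theorem IsEssential.exists_not_central [Fact p.Prime] [Finite S] (h : F.IsEssential p P)
    (hF : F.IsSaturated p) (hS : IsPGroup p S) (h2 : ⁅S, S⁆ ≤ centralizerIn S S) :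
    ∃ τ, F.Iso P P τ ∧ ∃ x ∈ centralizerIn S S, τ x ∉ centralizerIn S S := by
  by_contra hn
  push Not at hn
  refine h.not_innS_le hF hS fun u hu => ?_
  have hZ : centralizerIn S S ≤ P := (centralizerIn_anti S h.le).trans h.isCentric.centralizerIn_le
  obtain ⟨g, a, -, c⟩ := mem_innS.1 hu
  refine ((FusionSystem.mem_stab h.le).1 (F.innS_le_stab h.le hu)).mem_opStab_of_fix hS hZ hn
    (fun z hz => ?_) fun x hx => ?_
  · rw [c z (hZ hz), Subgroup.mem_centralizer_iff.1 hz.2 g a, mul_inv_cancel_right]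
  · rw [c x hx]
    exact h2 (inv_mul_conj_mem_commutator a (h.le hx))

theorem IsSaturated.isConstrained_of_heis [Fact p.Prime] [Finite S] (hF : F.IsSaturated p)
    (hS : IsPGroup p S) (h1 : ⁅S, S⁆ ≤ centralizerIn S S)
    (h2 : ∀ x ∈ S, x ∉ centralizerIn S S → ∀ a ∈ S, ∀ b ∈ S, Commute x a → Commute x b →
      Commute a b)
    (h3 : ∀ x ∈ S, x ∉ centralizerIn S S → ∀ y ∈ centralizerIn S S, ∃ s ∈ S, s * x * s⁻¹ = x * y)
    (hc : F.core ≠ ⊥) : F.IsConstrained p := by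
  have hQ := F.isNormal_core9
  refine ⟨hF, _, hQ, hQ.stronglyClosed.weaklyClosed.isCentric ?_⟩
  by_cases hZ : F.core ≤ centralizerIn S S
  · refine (centralizerIn_le _ _).trans (hF.isNormal_top hS fun R hR => hc ?_).le_core
    obtain ⟨τ, a1, x, a2, a3⟩ := hR.exists_not_central hF hS h1
    have hZR : centralizerIn S S ≤ R :=
      (centralizerIn_anti S hR.le).trans hR.isCentric.centralizerIn_le
    refine eq_bot_iff.2 fun y hy => ?_
    have b1 := hZ (hQ.stronglyClosed.mem a1.isMap (hZR (hZ hy)) hy)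
    obtain ⟨s, b2, b3⟩ := h3 _ (hR.le (a1.mem (hZR a2))) a3 _ b1
    have := finite_of_le hR.le
    have b4 : s ∈ Subgroup.normalizer (R : Set Ω) := mem_normalizer_of_finite fun z hz => by
      simpa using R.mul_mem hz (hZR (h1 (inv_mul_conj_mem_commutator b2 (hR.le hz))))
    have hc : ∀ z ∈ centralizerIn S S,
        z ∈ Subgroup.centralizer ((normalizerIn S R : Subgroup Ω) : Set Ω) := fun z hz =>
      Subgroup.centralizer_le (normalizerIn_le S R) hz.2
    have b5 : (τ⁻¹ * cj s * τ⁻¹⁻¹) x = x * y ^ (1 : ℤ) := by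
      simp only [inv_inv, Perm.mul_apply, cj_apply, b3, zpow_one]
      rw [← a1.homOn.map_mul (hZR a2) (hZR (hZ hy)), perm_inv_apply_self]
    have := (hR.isFullyNormalized.isFullyAutomized hF hS).fix_of_coset (hZR a2) (hZR (hZ hy))
      (hc x a2) (hc y (hZ hy)) ((H8.qEl_cj hS hR.le b2 b4).conj a1.symm) (by
        simp only [inv_inv, Perm.mul_apply, cj_apply]
        rw [Subgroup.mem_centralizer_iff.1 b1.2 s b2, mul_inv_cancel_right, perm_inv_apply_self]) b5
    rw [b5] at this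
    simpa using this
  · obtain ⟨x, hx, hx'⟩ := SetLike.not_le_iff_exists.1 hZ
    refine (hQ.stronglyClosed_centralizerIn.isNormal_of_comm hF hS ?_).le_core
    rw [Subgroup.commutator_eq_bot_iff_le_centralizer]
    intro a ha
    exact Subgroup.mem_centralizer_iff.2 fun b hb => h2 x (hQ.le hx) hx' b hb.1 a ha.1
      (Subgroup.mem_centralizer_iff.1 hb.2 x hx) (Subgroup.mem_centralizer_iff.1 ha.2 x hx)

end Cfsg.FusionSystem

namespace Cfsg.Agent.H7

open Matrix

variable {K : Type*} [Field K]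

/-- The unitriangular matrix with entries `a`, `b`, `c`. -/
def uni (a b c : K) : SpecialLinearGroup (Fin 3) K :=
  ⟨!![1, a, c; 0, 1, b; 0, 0, 1], by simp [det_fin_three]⟩

theorem uni_mul (a b c a' b' c' : K) :
    uni a b c * uni a' b' c' = uni (a + a') (b + b') (c + c' + a * b') := by
  refine Subtype.ext ?_
  change (!![1, a, c; 0, 1, b; 0, 0, 1] * !![1, a', c'; 0, 1, b'; 0, 0, 1] : Matrix (Fin 3) (Fin 3) K) =
    !![1, a + a', c + c' + a * b'; 0, 1, b + b'; 0, 0, 1]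
  ext i j
  fin_cases i <;> fin_cases j <;> simp [Matrix.mul_apply, Fin.sum_univ_three] <;> ring

theorem uni_zero : uni (0 : K) 0 0 = 1 := by
  ext i j
  fin_cases i <;> fin_cases j <;> simp [uni]

theorem uni_inj {a b c a' b' c' : K} : uni a b c = uni a' b' c' ↔ a = a' ∧ b = b' ∧ c = c' :=
  ⟨fun h => ⟨by simpa [uni] using congrArg (fun A => A.1 0 1) h,
    by simpa [uni] using congrArg (fun A => A.1 1 2) h,
    by simpa [uni] using congrArg (fun A => A.1 0 2) h⟩, by rintro ⟨rfl, rfl, rfl⟩; rfl⟩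

theorem uni_inv (a b c : K) : (uni a b c)⁻¹ = uni (-a) (-b) (a * b - c) := by
  rw [inv_eq_iff_mul_eq_one, uni_mul, ← uni_zero, uni_inj]
  refine ⟨by ring, by ring, by ring⟩

/-- The upper unitriangular subgroup of `SL₃(K)`. -/
def uniGrp (K : Type*) [Field K] : Subgroup (SpecialLinearGroup (Fin 3) K) where
  carrier := {A | ∃ a b c, A = uni a b c}
  one_mem' := ⟨0, 0, 0, uni_zero.symm⟩
  mul_mem' := by
    rintro _ _ ⟨a, b, c, rfl⟩ ⟨a', b', c', rfl⟩
    exact ⟨_, _, _, uni_mul ..⟩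
  inv_mem' := by
    rintro _ ⟨a, b, c, rfl⟩
    exact ⟨_, _, _, uni_inv ..⟩

theorem card_uniGrp : Nat.card (uniGrp K) = Nat.card K ^ 3 := by
  have : Nat.card (K × K × K) = Nat.card (uniGrp K) := Nat.card_congr (Equiv.ofBijective
    (fun x => ⟨uni x.1 x.2.1 x.2.2, _, _, _, rfl⟩) ⟨fun x y h => by
      obtain ⟨h1, h2, h3⟩ := uni_inj.1 (congrArg Subtype.val h)
      exact Prod.ext h1 (Prod.ext h2 h3), by
      rintro ⟨_, a, b, c, rfl⟩
      exact ⟨(a, b, c), rfl⟩⟩)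
  rw [← this, Nat.card_prod, Nat.card_prod]; ring

theorem exists_sylow_uniGrp [Fintype K] (p : ℕ) [hp : Fact p.Prime] [CharP K p] :
    ∃ U : Sylow p (SpecialLinearGroup (Fin 3) K), (U : Subgroup _) = uniGrp K := by
  obtain ⟨n, -, hn⟩ := FiniteField.card K p
  have h1 : IsPGroup p (uniGrp K) := IsPGroup.of_card (n := n * 3) (by
    rw [card_uniGrp, Nat.card_eq_fintype_card, hn, pow_mul])
  refine ⟨h1.toSylow fun h => ?_, rfl⟩
  have h2 := Subgroup.card_dvd_of_injective (SpecialLinearGroup.toGL (n := Fin 3) (R := K))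
    SpecialLinearGroup.toGL_injective
  rw [← (uniGrp K).card_mul_index, card_uniGrp, card_GL_field, Fin.prod_univ_three,
    Nat.card_eq_fintype_card] at h2
  set q := Fintype.card K
  have hq : p ∣ q := hn ▸ dvd_pow_self p n.ne_zero
  have hq0 : 0 < q := Fintype.card_pos
  have h3 : (q ^ 3 - q ^ ((0 : Fin 3) : ℕ)) * (q ^ 3 - q ^ ((1 : Fin 3) : ℕ)) *
      (q ^ 3 - q ^ ((2 : Fin 3) : ℕ)) = q ^ 3 * ((q ^ 3 - 1) * (q ^ 2 - 1) * (q ^ 1 - 1)) := by
    have a1 : q ^ 3 - q ^ ((1 : Fin 3) : ℕ) = q * (q ^ 2 - 1) := by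
      rw [Nat.mul_sub, mul_one, ← pow_succ']; simp
    have a2 : q ^ 3 - q ^ ((2 : Fin 3) : ℕ) = q ^ 2 * (q ^ 1 - 1) := by
      rw [Nat.mul_sub, mul_one, ← pow_add]; simp
    rw [a1, a2]; simp only [Fin.val_zero, pow_zero]; ring
  rw [h3] at h2
  have h4 := h.trans (Nat.dvd_of_mul_dvd_mul_left (pow_pos hq0 3) h2)
  have h5 : ∀ k, 0 < k → ¬ p ∣ q ^ k - 1 := fun k hk hd => hp.out.one_lt.ne' (Nat.dvd_one.1
    ((Nat.dvd_sub_iff_right (Nat.one_le_pow _ _ hq0) (hq.trans (dvd_pow_self q hk.ne'))).1 hd))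
  rcases (Nat.Prime.dvd_mul hp.out).1 h4 with h | h
  · rcases (Nat.Prime.dvd_mul hp.out).1 h with h | h
    exacts [h5 3 (by omega) h, h5 2 (by omega) h]
  · exact h5 1 (by omega) h

theorem uni_comm_iff {a b c a' b' c' : K} :
    uni a b c * uni a' b' c' = uni a' b' c' * uni a b c ↔ a * b' = a' * b := by
  rw [uni_mul, uni_mul, uni_inj]
  exact ⟨fun h => by linear_combination h.2.2, fun h => ⟨by ring, by ring, by linear_combination h⟩⟩

end Cfsg.Agent.H7
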